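import Mathlib

set_option autoImplicit false

/-! Sourour's factorisation: a non-scalar matrix is similar to a product of a lower and an upper triangular
matrix with prescribed diagonals. -/

namespace CfsgLib.Classical.Sourour

open Matrix

variable {K : Type*} [Field K] {n : ℕ}

/-- A bordered matrix. -/
def bord (a : K) (r c : Fin n → K) (D : Matrix (Fin n) (Fin n) K) : Matrix (Fin (n + 1)) (Fin (n + 1)) K :=
  Matrix.of (Fin.cons (Fin.cons a r) fun i => Fin.cons (c i) (D i))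

variable (a : K) (r c : Fin n → K) (D : Matrix (Fin n) (Fin n) K)

@[simp] theorem bord_zero_zero : bord a r c D 0 0 = a := rfl

@[simp] theorem bord_zero_succ (j : Fin n) : bord a r c D 0 j.succ = r j := rfl

@[simp] theorem bord_succ_zero (i : Fin n) : bord a r c D i.succ 0 = c i := rfl

@[simp] theorem bord_succ_succ (i j : Fin n) : bord a r c D i.succ j.succ = D i j := rfl

theorem bord_mul (a' : K) (r' c' : Fin n → K) (D' : Matrix (Fin n) (Fin n) K) :
    bord a r c D * bord a' r' c' D' =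
      bord (a * a' + r ⬝ᵥ c') (a • r' + r ᵥ* D') (a' • c + D *ᵥ c') (vecMulVec c r' + D * D') := by
  ext i j
  refine Fin.cases ?_ (fun i => ?_) i <;> refine Fin.cases ?_ (fun j => ?_) j <;>
    simp [Matrix.mul_apply, Fin.sum_univ_succ, dotProduct, Matrix.vecMul, Matrix.mulVec, vecMulVec_apply] <;> ring

theorem bord_one : bord (1 : K) 0 0 (1 : Matrix (Fin n) (Fin n) K) = 1 := by
  ext i j
  refine Fin.cases ?_ (fun i => ?_) i <;> refine Fin.cases ?_ (fun j => ?_) j <;>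
    simp [Matrix.one_apply, (Fin.succ_ne_zero _).symm]

theorem eq_bord (M : Matrix (Fin (n + 1)) (Fin (n + 1)) K) :
    M = bord (M 0 0) (fun j => M 0 j.succ) (fun i => M i.succ 0) (fun i j => M i.succ j.succ) := by
  ext i j
  refine Fin.cases ?_ (fun i => ?_) i <;> refine Fin.cases ?_ (fun j => ?_) j <;> rfl

theorem det_bord_lower : (bord a 0 c D).det = a * D.det := by
  rw [Matrix.det_succ_row_zero, Fin.sum_univ_succ]
  simp [Matrix.submatrix]
  exact Or.inl rfl

theorem det_bord_upper : (bord a r 0 D).det = a * D.det := by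
  rw [Matrix.det_succ_column_zero, Fin.sum_univ_succ]
  simp [Matrix.submatrix]
  exact Or.inl rfl

/-- `bord a r c (S + a⁻¹ c r)` as lower times upper. -/
theorem bord_eq_mul {β γ : K} (hβ : β ≠ 0) (hγ : γ ≠ 0) (L U : Matrix (Fin n) (Fin n) K) :
    bord (β * γ) r c (L * U + (β * γ)⁻¹ • vecMulVec c r) =
      bord β 0 (γ⁻¹ • c) L * bord γ (β⁻¹ • r) 0 U := by
  rw [bord_mul]
  congr 1
  · simp
  · rw [smul_smul, mul_inv_cancel₀ hβ, one_smul, zero_vecMul, add_zero]
  · rw [smul_smul, mul_inv_cancel₀ hγ, one_smul, mulVec_zero, add_zero]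
  · rw [add_comm]
    congr 1
    ext i j
    simp [vecMulVec_apply, mul_inv]
    ring

/-- A matrix that is not scalar. -/
def NonScalar (A : Matrix (Fin n) (Fin n) K) : Prop := ¬ ∃ t : K, A = t • 1

theorem exists_moved {A : Matrix (Fin n) (Fin n) K} (hA : NonScalar A) :
    ∃ x : Fin n → K, x ≠ 0 ∧ ∀ t : K, A *ᵥ x ≠ t • x := by
  classical
  by_contra hall
  push Not at hall
  rcases isEmpty_or_nonempty (Fin n) with h | ⟨⟨i₀⟩⟩
  · exact hA ⟨0, Subsingleton.elim _ _⟩
  choose t ht using fun i : Fin n => hall (Pi.single i (1 : K)) (fun h => by simpa using congrFun h i)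
  have hcol : ∀ i j, A i j = if i = j then t j else 0 := fun i j => by
    have h := congrFun (ht j) i
    simpa [Pi.single_apply, eq_comm] using h
  refine hA ⟨t i₀, ?_⟩
  have heq : ∀ j, t j = t i₀ := by
    intro j
    rcases eq_or_ne j i₀ with rfl | hj
    · rfl
    obtain ⟨s, hs⟩ := hall (Pi.single j (1 : K) + Pi.single i₀ 1) (fun h => by simpa [hj] using congrFun h j)
    rw [mulVec_add, ht, ht] at hs
    have h1 := congrFun hs j
    have h2 := congrFun hs i₀
    simp [hj, hj.symm] at h1 h2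
    rw [h1, h2]
  ext i j
  rw [hcol, heq, Matrix.smul_apply, Matrix.one_apply]
  split_ifs <;> simp

theorem exists_col {x : Fin (n + 1) → K} (hx : x ≠ 0) :
    ∃ P : Matrix (Fin (n + 1)) (Fin (n + 1)) K, P.det ≠ 0 ∧ ∀ i, P i 0 = x i := by
  classical
  obtain ⟨i, hi⟩ : ∃ i, x i ≠ 0 := Function.ne_iff.1 hx
  refine ⟨((1 : Matrix (Fin (n + 1)) (Fin (n + 1)) K).updateCol i x).submatrix id (Equiv.swap 0 i), ?_, fun j => ?_⟩
  · rw [Matrix.det_permute', ← Matrix.cramer_apply, Matrix.cramer_one]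
    simp [hi]
    split_ifs <;> simp
  · simp

/-- Conjugating into a bordered matrix with prescribed corner. -/
theorem exists_corner {A : Matrix (Fin (n + 1)) (Fin (n + 1)) K} (hA : NonScalar A) (a : K) :
    ∃ P : Matrix (Fin (n + 1)) (Fin (n + 1)) K, ∃ r c D, P.det ≠ 0 ∧ c ≠ 0 ∧ A * P = P * bord a r c D := by
  classical
  obtain ⟨x, hx, hAx⟩ := exists_moved hA
  obtain ⟨P₀, hP₀, hcol⟩ := exists_col hx
  obtain ⟨M, hM⟩ : ∃ M, A * P₀ = P₀ * M := ⟨P₀⁻¹ * (A * P₀), by
    rw [← Matrix.mul_assoc, Matrix.mul_nonsing_inv _ (isUnit_iff_ne_zero.2 hP₀), Matrix.one_mul]⟩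
  rw [eq_bord M] at hM
  obtain ⟨a', r', c', D', hM⟩ : ∃ a' r' c' D', A * P₀ = P₀ * bord a' r' c' D' := ⟨_, _, _, _, hM⟩
  have hc : c' ≠ 0 := fun h => hAx a' <| funext fun i => by
    have h1 := congrFun (congrFun hM i) 0
    rw [Matrix.mul_apply, Matrix.mul_apply, h] at h1
    simp [Fin.sum_univ_succ, hcol] at h1
    simp [Matrix.mulVec, dotProduct, Fin.sum_univ_succ, h1, mul_comm]
  obtain ⟨i, hi⟩ : ∃ i, c' i ≠ 0 := Function.ne_iff.1 hc
  let t : Fin n → K := Pi.single i ((a' - a) / c' i)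
  have htc : t ⬝ᵥ c' = a' - a := by simp [t, div_mul_cancel₀ _ hi]
  refine ⟨P₀ * bord 1 t 0 1, a' • t + r' - t ᵥ* (vecMulVec c' t + D'), c', vecMulVec c' t + D', ?_, hc, ?_⟩
  · rw [Matrix.det_mul, det_bord_upper, Matrix.det_one, mul_one, mul_one]; exact hP₀
  · rw [← Matrix.mul_assoc, hM, Matrix.mul_assoc, Matrix.mul_assoc, bord_mul, bord_mul]
    congr 1
    congr 1 <;> simp [htc]

theorem exists_orth {c : Fin n → K} (hn : 2 ≤ n) (hc : c ≠ 0) : ∃ t : Fin n → K, t ≠ 0 ∧ t ⬝ᵥ c = 0 := by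
  classical
  obtain ⟨i, hi⟩ : ∃ i, c i ≠ 0 := Function.ne_iff.1 hc
  obtain ⟨j, hj⟩ : ∃ j : Fin n, j ≠ i := by
    haveI : Nontrivial (Fin n) := Fin.nontrivial_iff_two_le.2 hn
    exact exists_ne i
  refine ⟨Pi.single j (c i) - Pi.single i (c j), fun h => hi ?_, ?_⟩
  · simpa [hj] using congrFun h j
  · simp [sub_dotProduct, mul_comm]

/-- The Schur complement may be taken non-scalar. -/
theorem exists_corner_schur {A : Matrix (Fin (n + 1)) (Fin (n + 1)) K} (hA : NonScalar A) (hdet : A.det ≠ 0)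
    {a : K} (ha : a ≠ 0) :
    ∃ P : Matrix (Fin (n + 1)) (Fin (n + 1)) K, ∃ r c S, P.det ≠ 0 ∧ A.det = a * Matrix.det S ∧
      A * P = P * bord a r c (S + a⁻¹ • vecMulVec c r) ∧ c ≠ 0 ∧ (2 ≤ n → NonScalar S) := by
  classical
  obtain ⟨P, r, c, D, hP, hc, hAP⟩ := exists_corner hA a
  have hdetS : ∀ (P : Matrix (Fin (n + 1)) (Fin (n + 1)) K) r c S, P.det ≠ 0 →
      A * P = P * bord a r c (S + a⁻¹ • vecMulVec c r) → A.det = a * Matrix.det S := by
    intro P r c S hP h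
    have h1 := congrArg Matrix.det h
    rw [Matrix.det_mul, Matrix.det_mul, ← mul_one a, ← mul_comm 1 a] at h1
    have h2 := bord_eq_mul r c one_ne_zero ha (1 : Matrix (Fin n) (Fin n) K) S
    rw [Matrix.one_mul, one_mul] at h2
    rw [one_mul, h2, Matrix.det_mul, det_bord_lower, det_bord_upper, Matrix.det_one, one_mul, one_mul,
      mul_comm P.det] at h1
    exact mul_right_cancel₀ hP h1
  set S₀ := D - a⁻¹ • vecMulVec c r with hS₀
  have hAP' : A * P = P * bord a r c (S₀ + a⁻¹ • vecMulVec c r) := by rw [hS₀, sub_add_cancel]; exact hAP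
  by_cases hS : 2 ≤ n → NonScalar S₀
  · exact ⟨P, r, c, S₀, hP, hdetS _ _ _ _ hP hAP', hAP', hc, hS⟩
  push Not at hS
  obtain ⟨hn, hS⟩ := hS
  obtain ⟨s, hs⟩ := not_not.1 hS
  haveI : Nonempty (Fin n) := ⟨⟨0, by omega⟩⟩
  have hs0 : s ≠ 0 := fun h => by
    have h1 := hdetS _ _ _ _ hP hAP'
    rw [hs, h, zero_smul, Matrix.det_zero, mul_zero] at h1
    exact hdet h1
  obtain ⟨t, ht, htc⟩ := exists_orth hn hc
  set r' := a • t + r - t ᵥ* D with hr'
  set S₁ := S₀ + (a⁻¹ * s) • vecMulVec c t with hS₁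
  have htD : t ᵥ* D = s • t := by
    rw [show D = S₀ + a⁻¹ • vecMulVec c r by rw [hS₀, sub_add_cancel], vecMul_add, hs, vecMul_smul, vecMul_one,
      vecMul_smul, vecMul_vecMulVec, htc, zero_smul, smul_zero, add_zero]
  have hAP1 : A * (P * bord 1 t 0 1) = (P * bord 1 t 0 1) * bord a r' c (S₁ + a⁻¹ • vecMulVec c r') := by
    rw [← Matrix.mul_assoc, hAP, Matrix.mul_assoc, Matrix.mul_assoc, bord_mul, bord_mul]
    congr 1
    have hD' : S₁ + a⁻¹ • vecMulVec c r' = vecMulVec c t + D := by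
      rw [hS₁, hr', htD, show D = S₀ + a⁻¹ • vecMulVec c r by rw [hS₀, sub_add_cancel]]
      ext i j
      simp [vecMulVec_apply]
      field_simp
      ring
    rw [hD']
    congr 1
    · simp [htc]
    · simp [hr', vecMul_add, vecMul_vecMulVec, htc]
    · simp
    · simp
  have hdetP : (P * bord 1 t 0 1).det ≠ 0 := by
    rw [Matrix.det_mul, det_bord_upper, Matrix.det_one, mul_one, mul_one]; exact hP
  refine ⟨_, r', c, S₁, hdetP, hdetS _ _ _ _ hdetP hAP1, hAP1, hc, fun _ ⟨u, hu⟩ => ?_⟩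
  have h1 : vecMulVec c t = ((a⁻¹ * s)⁻¹ * (u - s)) • (1 : Matrix (Fin n) (Fin n) K) := by
    rw [mul_smul, sub_smul, ← hu, ← hs, hS₁, add_sub_cancel_left,
      inv_smul_smul₀ (mul_ne_zero (inv_ne_zero ha) hs0)]
  set μ := (a⁻¹ * s)⁻¹ * (u - s)
  have h2 := congrArg (fun M => t ᵥ* M) h1
  simp only [vecMul_vecMulVec, htc, zero_smul, vecMul_smul, vecMul_one] at h2
  have hμ : μ = 0 := (smul_eq_zero.1 h2.symm).resolve_right ht
  rw [hμ, zero_smul] at h1
  obtain ⟨i, hi⟩ : ∃ i, c i ≠ 0 := Function.ne_iff.1 hc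
  obtain ⟨j, hj⟩ : ∃ j, t j ≠ 0 := Function.ne_iff.1 ht
  exact mul_ne_zero hi hj (congrFun (congrFun h1 i) j)

/-- One step of the factorisation. -/
theorem exists_step {A : Matrix (Fin (n + 1)) (Fin (n + 1)) K} (hA : NonScalar A) (hdet : A.det ≠ 0)
    {β γ : K} (hβ : β ≠ 0) (hγ : γ ≠ 0) :
    ∃ S : Matrix (Fin n) (Fin n) K, A.det = β * γ * S.det ∧ (2 ≤ n → NonScalar S) ∧
      ∀ Q L U : Matrix (Fin n) (Fin n) K, Q.det ≠ 0 → S * Q = Q * (L * U) →
        ∃ (P : Matrix (Fin (n + 1)) (Fin (n + 1)) K) (c r : Fin n → K), P.det ≠ 0 ∧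
          A * P = P * (bord β 0 c L * bord γ r 0 U) := by
  classical
  obtain ⟨P, r, c, S, hP, hd, hAP, -, hS⟩ := exists_corner_schur hA hdet (mul_ne_zero hβ hγ)
  refine ⟨S, hd, hS, fun Q L U hQ hSQ => ?_⟩
  have hQ' := isUnit_iff_ne_zero.2 hQ
  refine ⟨P * bord 1 0 0 Q, γ⁻¹ • (Q⁻¹ *ᵥ c), β⁻¹ • (r ᵥ* Q), ?_, ?_⟩
  · rw [Matrix.det_mul, det_bord_upper, one_mul]; exact mul_ne_zero hP hQ
  rw [← bord_eq_mul _ _ hβ hγ, ← Matrix.mul_assoc A, hAP, Matrix.mul_assoc, Matrix.mul_assoc, bord_mul, bord_mul]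
  congr 1
  congr 1
  · simp
  · simp
  · simp [mulVec_mulVec, Matrix.mul_nonsing_inv _ hQ']
  · simp only [vecMulVec_zero, zero_vecMulVec, zero_add, Matrix.add_mul, Matrix.mul_add, hSQ, Matrix.smul_mul,
      Matrix.mul_smul, Matrix.vecMulVec_mul, Matrix.mul_vecMulVec, mulVec_mulVec, Matrix.mul_nonsing_inv _ hQ',
      one_mulVec]

/-- Sourour's theorem. -/
theorem exists_lu : ∀ {n : ℕ} (A : Matrix (Fin n) (Fin n) K) (β γ : Fin n → K), (2 ≤ n → NonScalar A) →
    A.det = (∏ i, β i) * ∏ i, γ i → (∀ i, β i ≠ 0) → (∀ i, γ i ≠ 0) →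
    ∃ P L U : Matrix (Fin n) (Fin n) K, P.det ≠ 0 ∧ A * P = P * (L * U) ∧ (∀ i j, i < j → L i j = 0) ∧
      (∀ i j, j < i → U i j = 0) ∧ (∀ i, L i i = β i) ∧ ∀ i, U i i = γ i := by
  intro n
  induction n with
  | zero => exact fun A β γ _ _ _ _ => ⟨1, 1, 1, by simp, Subsingleton.elim _ _, fun i => i.elim0, fun i => i.elim0,
      fun i => i.elim0, fun i => i.elim0⟩
  | succ n ih =>
    intro A β γ hA hdet hβ hγ
    rcases Nat.eq_zero_or_pos n with rfl | hn
    · refine ⟨1, Matrix.diagonal β, Matrix.diagonal γ, by simp, ?_, fun i j h => Matrix.diagonal_apply_ne _ h.ne,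
        fun i j h => Matrix.diagonal_apply_ne _ h.ne', fun i => Matrix.diagonal_apply_eq _ _,
        fun i => Matrix.diagonal_apply_eq _ _⟩
      ext i j
      rw [Matrix.det_succ_row_zero] at hdet
      simp [Fin.sum_univ_succ, Fin.prod_univ_succ] at hdet
      fin_cases i; fin_cases j
      simp [Matrix.mul_apply, hdet]
    have hdet0 : A.det ≠ 0 := by
      rw [hdet]
      exact mul_ne_zero (Finset.prod_ne_zero_iff.2 fun i _ => hβ i) (Finset.prod_ne_zero_iff.2 fun i _ => hγ i)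
    obtain ⟨S, hd, hS, hstep⟩ := exists_step (hA (by omega)) hdet0 (hβ 0) (hγ 0)
    obtain ⟨Q, L, U, hQ, hSQ, hL, hU, hLd, hUd⟩ := ih S (fun i => β i.succ) (fun i => γ i.succ) hS
      (mul_left_cancel₀ (mul_ne_zero (hβ 0) (hγ 0)) (by
        rw [← hd, hdet, Fin.prod_univ_succ, Fin.prod_univ_succ]; ring))
      (fun i => hβ _) (fun i => hγ _)
    obtain ⟨P, c, r, hP, hAP⟩ := hstep Q L U hQ hSQ
    refine ⟨P, _, _, hP, hAP, fun i j => ?_, fun i j => ?_, fun i => ?_, fun i => ?_⟩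
    · refine Fin.cases ?_ (fun i => ?_) i <;> refine Fin.cases ?_ (fun j => ?_) j <;> simp
      exact hL i j
    · refine Fin.cases ?_ (fun i => ?_) i <;> refine Fin.cases ?_ (fun j => ?_) j <;> simp
      exact hU i j
    · refine Fin.cases ?_ (fun i => ?_) i <;> simp [hLd]
    · refine Fin.cases ?_ (fun i => ?_) i <;> simp [hUd]

/-- Distinct eigenvalues give a diagonal form. -/
theorem exists_diag (M : Matrix (Fin n) (Fin n) K) (d : Fin n → K) (hd : Function.Injective d)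
    (h : ∀ i, (M - d i • 1).det = 0) :
    ∃ P : Matrix (Fin n) (Fin n) K, P.det ≠ 0 ∧ M * P = P * Matrix.diagonal d := by
  classical
  choose v hv0 hv using fun i => Matrix.exists_mulVec_eq_zero_iff.2 (h i)
  have hv' : ∀ i, M *ᵥ v i = d i • v i := fun i => by
    have := hv i
    rw [sub_mulVec, sub_eq_zero, smul_mulVec, one_mulVec] at this
    exact this
  have hli : LinearIndependent K v := Module.End.eigenvectors_linearIndependent' (Matrix.toLin' M) d hd v fun i =>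
    ⟨Module.End.mem_eigenspace_iff.2 (by simpa [Matrix.toLin'_apply] using hv' i), hv0 i⟩
  refine ⟨(Matrix.of v)ᵀ, ?_, ?_⟩
  · rw [← isUnit_iff_ne_zero, ← Matrix.isUnit_iff_isUnit_det, ← Matrix.linearIndependent_cols_iff_isUnit]
    exact hli
  · ext i j
    rw [Matrix.mul_diagonal, Matrix.mul_apply]
    simpa [Matrix.mulVec, dotProduct, mul_comm (d j)] using congrFun (hv' j) i

theorem exists_diag_lower (L : Matrix (Fin n) (Fin n) K) (hL : ∀ i j, i < j → L i j = 0)
    (hd : Function.Injective fun i => L i i) :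
    ∃ P : Matrix (Fin n) (Fin n) K, P.det ≠ 0 ∧ L * P = P * Matrix.diagonal (fun i => L i i) := by
  refine exists_diag L _ hd fun i => ?_
  rw [Matrix.det_of_isLowerTriangular]
  · exact Finset.prod_eq_zero (Finset.mem_univ i) (by simp)
  · intro a b hab
    have h : a < b := hab
    simp [hL a b h, h.ne]

theorem exists_diag_upper (U : Matrix (Fin n) (Fin n) K) (hU : ∀ i j, j < i → U i j = 0)
    (hd : Function.Injective fun i => U i i) :
    ∃ P : Matrix (Fin n) (Fin n) K, P.det ≠ 0 ∧ U * P = P * Matrix.diagonal (fun i => U i i) := by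
  refine exists_diag U _ hd fun i => ?_
  rw [Matrix.det_of_isUpperTriangular]
  · exact Finset.prod_eq_zero (Finset.mem_univ i) (by simp)
  · intro a b hab
    have h : b < a := hab
    simp [hU a b h, h.ne']

end CfsgLib.Classical.Sourour
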