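import Cfsg.Agent.Lib.Classical.Sourour.Basic

set_option autoImplicit false

/-! Products of two `SL`-conjugates of a regular semisimple element. -/

namespace CfsgLib.Classical.Sourour

open Matrix

variable {K : Type*} [Field K] {n : ℕ}

theorem exists_sl_conj (D : Matrix.SpecialLinearGroup (Fin n) K)
    (hE : ∀ μ : K, ∃ E : Matrix (Fin n) (Fin n) K, E.det = μ ∧ E * D.1 = D.1 * E)
    {A X : Matrix (Fin n) (Fin n) K} (hX : X.det ≠ 0) (h : A * X = X * D.1) :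
    ∃ u : Matrix.SpecialLinearGroup (Fin n) K, (u * D * u⁻¹).1 = A := by
  obtain ⟨E, hEd, hEc⟩ := hE X.det⁻¹
  obtain ⟨u, hu⟩ : ∃ u : Matrix.SpecialLinearGroup (Fin n) K, u.1 = X * E :=
    ⟨⟨X * E, by rw [det_mul, hEd, mul_inv_cancel₀ hX]⟩, rfl⟩
  refine ⟨u, ?_⟩
  have h1 : u.1 * D.1 = A * u.1 := by
    rw [hu]
    rw [Matrix.mul_assoc, hEc, ← Matrix.mul_assoc, ← h, Matrix.mul_assoc]
  rw [Matrix.SpecialLinearGroup.coe_mul, Matrix.SpecialLinearGroup.coe_mul, h1, Matrix.mul_assoc,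
    ← Matrix.SpecialLinearGroup.coe_mul, mul_inv_cancel, Matrix.SpecialLinearGroup.coe_one, Matrix.mul_one]

theorem exists_prod_conj (D D' G : Matrix.SpecialLinearGroup (Fin n) K)
    (hE : ∀ μ : K, ∃ E : Matrix (Fin n) (Fin n) K, E.det = μ ∧ E * D.1 = D.1 * E)
    (hE' : ∀ μ : K, ∃ E : Matrix (Fin n) (Fin n) K, E.det = μ ∧ E * D'.1 = D'.1 * E)
    {P L U X Y : Matrix (Fin n) (Fin n) K} (hP : P.det ≠ 0) (hX : X.det ≠ 0) (hY : Y.det ≠ 0)
    (hG : G.1 * P = P * (L * U)) (hL : L * X = X * D.1) (hU : U * Y = Y * D'.1) :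
    ∃ u v : Matrix.SpecialLinearGroup (Fin n) K, G = (u * D * u⁻¹) * (v * D' * v⁻¹) := by
  have hP' := isUnit_iff_ne_zero.2 hP
  obtain ⟨u, hu⟩ := exists_sl_conj D hE (A := P * L * P⁻¹) (X := P * X)
    (by rw [det_mul]; exact mul_ne_zero hP hX)
    (by rw [Matrix.mul_assoc, Matrix.nonsing_inv_mul_cancel_left _ _ hP', Matrix.mul_assoc, hL, Matrix.mul_assoc])
  obtain ⟨v, hv⟩ := exists_sl_conj D' hE' (A := P * U * P⁻¹) (X := P * Y)
    (by rw [det_mul]; exact mul_ne_zero hP hY)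
    (by rw [Matrix.mul_assoc, Matrix.nonsing_inv_mul_cancel_left _ _ hP', Matrix.mul_assoc, hU, Matrix.mul_assoc])
  refine ⟨u, v, Subtype.ext ?_⟩
  rw [Matrix.SpecialLinearGroup.coe_mul (u * D * u⁻¹), hu, hv, Matrix.mul_assoc (P * L), Matrix.mul_assoc P U,
    Matrix.nonsing_inv_mul_cancel_left _ _ hP', ← Matrix.mul_assoc (P * L), Matrix.mul_assoc P L, ← hG,
    Matrix.mul_nonsing_inv_cancel_right _ _ hP']

theorem diagonal_centralizer (d : Fin (n + 1) → K) (μ : K) :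
    ∃ E : Matrix (Fin (n + 1)) (Fin (n + 1)) K, E.det = μ ∧ E * diagonal d = diagonal d * E := by
  refine ⟨diagonal (Function.update 1 0 μ), ?_, ?_⟩
  · rw [det_diagonal, Fin.prod_univ_succ]
    simp [Fin.succ_ne_zero]
  · rw [diagonal_mul_diagonal, diagonal_mul_diagonal]
    simp [mul_comm]

/-- Every non-scalar element of `SL_n` is a product of conjugates of diagonal elements with distinct entries. -/
theorem exists_prod_diag_conj (G : Matrix.SpecialLinearGroup (Fin (n + 1)) K) (hG : 2 ≤ n + 1 → NonScalar G.1)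
    (D D' : Matrix.SpecialLinearGroup (Fin (n + 1)) K) {d d' : Fin (n + 1) → K} (hD : D.1 = diagonal d)
    (hD' : D'.1 = diagonal d') (hd : Function.Injective d) (hd' : Function.Injective d') :
    ∃ u v : Matrix.SpecialLinearGroup (Fin (n + 1)) K, G = (u * D * u⁻¹) * (v * D' * v⁻¹) := by
  have h1 : ∏ i, d i = 1 := by rw [← det_diagonal, ← hD, D.2]
  have h2 : ∏ i, d' i = 1 := by rw [← det_diagonal, ← hD', D'.2]
  have hne : ∀ e : Fin (n + 1) → K, ∏ i, e i = 1 → ∀ i, e i ≠ 0 := fun e he i h =>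
    zero_ne_one ((Finset.prod_eq_zero (Finset.mem_univ i) h).symm.trans he)
  obtain ⟨P, L, U, hP, hGP, hL, hU, hLd, hUd⟩ :=
    exists_lu G.1 d d' hG (by rw [h1, h2, mul_one, G.2]) (hne d h1) (hne d' h2)
  have eL : (fun i => L i i) = d := funext hLd
  have eU : (fun i => U i i) = d' := funext hUd
  obtain ⟨X, hX, hLX⟩ := exists_diag_lower L hL (eL ▸ hd)
  obtain ⟨Y, hY, hUY⟩ := exists_diag_upper U hU (eU ▸ hd')
  rw [eL, ← hD] at hLX
  rw [eU, ← hD'] at hUY
  exact exists_prod_conj D D' G (fun μ => hD ▸ diagonal_centralizer d μ) (fun μ => hD' ▸ diagonal_centralizer d' μ)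
    hP hX hY hGP hLX hUY

end CfsgLib.Classical.Sourour
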